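import Cfsg.Prelude.Def_Classical

/-!
The unitary groups for the standard form depend on the field only up to isomorphism.
-/

set_option autoImplicit false

namespace Cfsg.Agent.Lib.LatticeUnitary

open Cfsg Matrix

/-- A special unitary group transported along a field isomorphism. -/
theorem exists_su_congr {K F : Type*} [Field K] [Field F] (φ : K ≃+* F) (n q : ℕ) :
    Nonempty (↥(SU n K q) ≃* ↥(SU n F q)) := by
  let Φ : Matrix.SpecialLinearGroup (Fin n) K ≃* Matrix.SpecialLinearGroup (Fin n) F :=
    MulEquiv.ofBijective (Matrix.SpecialLinearGroup.map (φ : K →+* F)) ⟨fun a b h => by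
      ext i j
      exact φ.injective (congrArg (fun m : Matrix.SpecialLinearGroup (Fin n) F => (m : Matrix _ _ F) i j) h),
     fun m => ⟨Matrix.SpecialLinearGroup.map (φ.symm : F →+* K) m, by ext i j; simp⟩⟩
  have hmul : ∀ g u, (slToMat n F (Φ g)).mulVec (fun i => φ (u i)) =
      fun i => φ ((slToMat n K g).mulVec u i) := by
    intro g u; funext i
    simp [Φ, Matrix.mulVec, dotProduct, map_sum]
    rfl
  have hf : ∀ u v : Fin n → K, hermForm n F q (fun i => φ (u i)) (fun i => φ (v i)) =
      φ (hermForm n K q u v) := by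
    intro u v; simp [hermForm, map_sum]
  have key : ∀ g, Φ g ∈ SU n F q ↔ g ∈ SU n K q := by
    intro g
    constructor
    · intro h u v
      apply φ.injective
      rw [← hf, ← hf, ← hmul, ← hmul]
      exact h _ _
    · intro h u v
      have hu : u = fun i => φ (φ.symm (u i)) := by simp
      have hv : v = fun i => φ (φ.symm (v i)) := by simp
      rw [hu, hv, hmul, hmul, hf, hf, h]
  exact ⟨(Φ.subgroupMap (SU n K q)).trans (MulEquiv.subgroupCongr (by
    ext x
    constructor
    · rintro ⟨g, hg, rfl⟩; exact (key g).2 hg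
    · intro hx; exact ⟨Φ.symm x, (key _).1 (by simpa using hx), by simp⟩))⟩

/-- A projective special unitary group transported along a field isomorphism. -/
theorem exists_psu_congr {K F : Type*} [Field K] [Field F] (φ : K ≃+* F) (n q : ℕ) :
    Nonempty (Cfsg.PSU n K q ≃* Cfsg.PSU n F q) := by
  obtain ⟨e⟩ := exists_su_congr φ n q
  refine ⟨QuotientGroup.congr _ _ e ?_⟩
  ext x
  simp only [Subgroup.mem_map, Subgroup.mem_center_iff]
  constructor
  · rintro ⟨y, hy, rfl⟩ g
    obtain ⟨h, rfl⟩ := e.surjective g
    exact (map_mul e h y).symm.trans ((congrArg e (hy h)).trans (map_mul e y h))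
  · intro hx
    refine ⟨e.symm x, fun g => e.injective ?_, e.apply_symm_apply x⟩
    rw [map_mul, map_mul, e.apply_symm_apply]
    exact hx _

end Cfsg.Agent.Lib.LatticeUnitary
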