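import Cfsg.Agent.Lib.LatticeUnitary.U4Cert
import Cfsg.Agent.Lib.LatticeUnitary.Transport
import Cfsg.Agent.Lib.SporStruct.LeechTriples
import Cfsg.Agent.Lib.AutPSU.Descent
import Cfsg.Agent.Lib.Unitary.Transvection
import Cfsg.Agent.S0280
import Cfsg.Agent.S1579

/-!
The point stabiliser of the McLaughlin configuration is the four-dimensional projective special
unitary group over nine elements: a subgroup of the product of the stabiliser with the special
unitary group respects a labelling of 112 minimal vectors by the totally isotropic lines.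
-/

set_option autoImplicit false
set_option maxRecDepth 20000
set_option Elab.async false

namespace Cfsg.Agent.Lib.LatticeUnitary.U4

open Cfsg Cfsg.Agent.Lib.Co3Model Cfsg.Agent.Lib.Leech Cfsg.Agent.Lib.U33
open Cfsg.Agent.Lib.SporStruct Cfsg.Agent.Lib.Golay
open Cfsg.Agent.Lib.Computation (getW permRep decodeP okPerm decodeP_apply)

/-! ### The standard triple -/

/-- The first minimal vector. -/
noncomputable def v0 : leechLattice := LeechPairs.pp (pt 23) (pt 0)

/-- The second minimal vector. -/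
noncomputable def x0 : leechLattice := LeechPairs.pn (pt 23) (pt 1)

/-- The vector of norm 48. -/
noncomputable def u0 : leechLattice :=
  wordElt [Op.sign uMask] • LeechPairs.fiveBase (pt 23)

/-- The first coordinate list. -/
def lv0 : List ℤ := (List.range 24).map fun i => if i = 23 ∨ i = 0 then 4 else 0

/-- The second coordinate list. -/
def lx0 : List ℤ := (List.range 24).map fun i => if i = 23 then 4 else if i = 1 then -4 else 0

/-- The third coordinate list. -/
def lu0 : List ℤ :=
  (List.range 24).map fun i => (if uMask.testBit i then -1 else 1) * if i = 23 then 5 else 1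

theorem lv_v0 : lv v0 = lv0 := by decide +kernel

theorem lv_x0 : lv x0 = lx0 := by decide +kernel

theorem lv_u0 : lv u0 = lu0 := by
  rw [u0, lv_word (by decide +kernel : ([Op.sign uMask].all Op.ok) = true),
    lv_eq_map (f := fun i => if i = 23 then 5 else 1) fun i hi => ?_]
  · decide +kernel
  · rw [LeechPairs.fiveBase_apply]
    refine if_congr ⟨fun h => ?_, fun h => h ▸ rfl⟩ rfl rfl
    rw [← idx_pt hi, h, idx_pt (by omega : 23 < 24)]

theorem pt_ne {i j : ℕ} (hi : i < 24) (hj : j < 24) (h : i ≠ j) : pt i ≠ pt j := fun e =>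
  h (by rw [← idx_pt hi, e, idx_pt hj])

theorem sqNorm_v0 : sqNorm (vec v0) = 32 :=
  LeechPairs.norm_pp (pt_ne (by omega) (by omega) (by omega))

theorem sqNorm_x0 : sqNorm (vec x0) = 32 :=
  LeechPairs.norm_pn (pt_ne (by omega) (by omega) (by omega))

theorem sqNorm_u0 : sqNorm (vec u0) = 48 := by
  rw [u0, norm_smul', LeechPairs.norm_fiveBase]

/-- An entry of the third vector. -/
theorem u0_apply {i : ℕ} (hi : i < 24) : vec u0 (pt i) = ent lu0 i := by
  rw [← lv_u0, ent_lv u0 hi]

theorem dot_u0_v0 : dotInt (vec u0) (vec v0) = 24 := by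
  rw [LeechPairs.dot_comm, show v0 = LeechPairs.pp (pt 23) (pt 0) from rfl, LeechPairs.dot_pp,
    u0_apply (by omega), u0_apply (by omega)]
  decide +kernel

theorem dot_u0_x0 : dotInt (vec u0) (vec x0) = 24 := by
  rw [LeechPairs.dot_comm, show x0 = LeechPairs.pn (pt 23) (pt 1) from rfl, LeechPairs.dot_pn,
    u0_apply (by omega), u0_apply (by omega)]
  decide +kernel

theorem dot_v0_x0 : dotInt (vec v0) (vec x0) = 16 := by decide +kernel

/-- The stabiliser of the triple. -/
noncomputable abbrev G0 : Subgroup Co0 :=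
  MulAction.stabilizer Co0 u0 ⊓ MulAction.stabilizer Co0 v0 ⊓ MulAction.stabilizer Co0 x0

/-- An element of a stabiliser in an intersection, counted by its orbit. -/
theorem card_inf_stabilizer (S : Subgroup Co0) (t : leechLattice) (O : Finset leechLattice)
    (h1 : ∀ g ∈ S, g • t ∈ O) (h2 : ∀ z ∈ O, ∃ g ∈ S, g • t = z) :
    O.card * Nat.card ↥(S ⊓ MulAction.stabilizer Co0 t) = Nat.card S := by
  have horb : MulAction.orbit S t = ↑O := by
    ext z
    constructor
    · rintro ⟨⟨g, hg⟩, rfl⟩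
      exact h1 g hg
    · intro hz
      obtain ⟨g, hg, e⟩ := h2 z hz
      exact ⟨⟨g, hg⟩, e⟩
  have h := (MulAction.stabilizer S t).card_mul_index
  rw [MulAction.index_stabilizer, horb, Set.ncard_coe_finset] at h
  have e : S ⊓ MulAction.stabilizer Co0 t = (MulAction.stabilizer S t).map S.subtype := by
    ext g
    simp only [Subgroup.mem_map, Subgroup.mem_inf, Subgroup.subtype_apply]
    constructor
    · rintro ⟨g1, g2⟩
      exact ⟨⟨g, g1⟩, g2, rfl⟩
    · rintro ⟨z, hz, rfl⟩
      exact ⟨z.2, hz⟩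
  rw [e, ← Nat.card_congr ((MulAction.stabilizer S t).equivMapOfInjective _
    S.subtype_injective).toEquiv, mul_comm]
  exact h

theorem card_G0 : Nat.card G0 = 3265920 := by
  classical
  have h1 := card_inf_stabilizer (MulAction.stabilizer Co0 u0) v0
    ((LeechCounts.shell 32).filter fun w => dotInt (vec u0) (vec w) = 24)
    (fun g hg => by
      simp only [Finset.mem_filter, LeechCounts.mem_shell]
      refine ⟨(norm_smul' g v0).trans sqNorm_v0, ?_⟩
      have h := dot_smul g u0 v0
      rw [MulAction.mem_stabilizer_iff.1 hg] at h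
      exact h.trans dot_u0_v0)
    (fun z hz => by
      simp only [Finset.mem_filter, LeechCounts.mem_shell] at hz
      have hsub : ∀ w : leechLattice, sqNorm (vec w) = 32 → dotInt (vec u0) (vec w) = 24 →
          sqNorm (w : GolayPt → ℤ) = 32 ∧
            sqNorm ((u0 : GolayPt → ℤ) - (w : GolayPt → ℤ)) = 32 := fun w hn hd =>
        ⟨hn, by
          have hu := sqNorm_u0
          simp only [vec] at hu hn hd
          rw [Leech.sqNorm_sub, hu, hn, hd]; norm_num⟩
      obtain ⟨g, g1, g2⟩ := Cfsg.Agent.S1579.result u0 v0 z sqNorm_u0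
        (hsub v0 sqNorm_v0 dot_u0_v0) (hsub z hz.1 hz.2)
      exact ⟨g, g1, g2⟩)
  have h2 := card_inf_stabilizer (MulAction.stabilizer Co0 u0 ⊓ MulAction.stabilizer Co0 v0) x0
    ((LeechCounts.shell 32).filter fun w =>
      dotInt (vec u0) (vec w) = 24 ∧ dotInt (vec v0) (vec w) = 16)
    (fun g hg => by
      simp only [Finset.mem_filter, LeechCounts.mem_shell]
      refine ⟨(norm_smul' g x0).trans sqNorm_x0, ?_, ?_⟩
      · have h := dot_smul g u0 x0
        rw [MulAction.mem_stabilizer_iff.1 hg.1] at h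
        exact h.trans dot_u0_x0
      · have h := dot_smul g v0 x0
        rw [MulAction.mem_stabilizer_iff.1 hg.2] at h
        exact h.trans dot_v0_x0)
    (fun z hz => by
      simp only [Finset.mem_filter, LeechCounts.mem_shell] at hz
      obtain ⟨g, g1, g2, g3⟩ := LeechTriples.transitive275 sqNorm_u0 sqNorm_v0 sqNorm_x0
        dot_u0_v0 dot_u0_x0 dot_v0_x0 sqNorm_u0 sqNorm_v0 hz.1 dot_u0_v0 hz.2.1 hz.2.2
      exact ⟨g, ⟨g1, g2⟩, g3⟩)
  have c1 : ((LeechCounts.shell 32).filter fun w => dotInt (vec u0) (vec w) = 24).card = 552 :=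
    LeechCounts.N24 sqNorm_u0
  rw [c1, card_stab48 sqNorm_u0] at h1
  rw [LeechTriples.count275 sqNorm_u0 sqNorm_v0 dot_u0_v0] at h2
  have h2' : 275 * Nat.card ↥G0 = _ := h2
  omega

/-! ### The vectors and the lines -/

theorem lv_root : ∃ y : leechLattice, lv y = decY (yc root) := by
  refine ⟨wordElt [Op.sign rootMask] •
    (⟨oddBase (pt rootPos), oddBase_mem _⟩ : leechLattice), ?_⟩
  rw [lv_word (by decide +kernel : ([Op.sign rootMask].all Op.ok) = true),
    lv_eq_map (f := fun i => if i = rootPos then -3 else 1) fun i hi => ?_]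
  · decide +kernel
  · refine if_congr ⟨fun h => ?_, fun h => h ▸ rfl⟩ rfl rfl
    rw [← idx_pt hi, h, idx_pt (by decide)]

/-- An automorphism of the list. -/
noncomputable def atomElt (g : ℕ) : Co0 := wordElt (atoms.getD g [])

theorem atom_all (g : Fin 2) : (atoms.getD g.1 []).all Op.ok = true := by
  refine List.all_eq_true.1 atoms_ok _ ?_
  rw [List.getD_eq_getElem _ _ (show g.1 < atoms.length from g.2)]
  exact List.getElem_mem _

theorem exists_y : ∀ j : Fin 112, ∃ y : leechLattice, lv y = decY (yc j) := by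
  suffices H : ∀ d, ∀ j : Fin 112, getW 16 par j >>> 8 = d →
      ∃ y : leechLattice, lv y = decY (yc j) from fun j => H _ j rfl
  intro d
  induction d using Nat.strong_induction_on with
  | _ d ih =>
    intro j hd
    rcases par_ok j with h | ⟨hp, hj, hlt⟩
    · rw [h]; exact lv_root
    · obtain ⟨y, hy⟩ := ih _ (hd ▸ hlt) ⟨_, hp⟩ rfl
      let g : Fin 2 := ⟨getW 16 par j >>> 7 % 2, Nat.mod_lt _ (by norm_num)⟩
      refine ⟨atomElt g • y, ?_⟩
      rw [atomElt, lv_word (atom_all g) y, hy, (atom_ok g ⟨_, hp⟩).2, hj]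

/-- A vector of the list. -/
noncomputable def y (j : Fin 112) : leechLattice := (exists_y j).choose

theorem lv_y (j : Fin 112) : lv (y j) = decY (yc j) := (exists_y j).choose_spec

theorem y_injective : Function.Injective y := by
  have hmono : StrictMono fun j : Fin 112 => yc j := by
    refine Fin.strictMono_iff_lt_succ.2 fun i => ?_
    rcases (code_ok i.castSucc).2 with h | h
    · have := i.2; simp at h; omega
    · simpa using h
  intro a b hab
  refine hmono.injective ?_
  have h : ∀ j : Fin 112, encY (lv (y j)) = yc j := fun j => by rw [lv_y]; exact (code_ok j).1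
  show yc a = yc b
  rw [← h, ← h, hab]

/-- A line. -/
def line (j : Fin 112) : Submodule K9 (Fin 4 → K9) := Submodule.span K9 {lp j, lq j}

theorem mem_line {j : Fin 112} {z : Fin 4 → K9} :
    z ∈ line j ↔ ∃ a b : K9, a • lp j + b • lq j = z := Submodule.mem_span_pair

theorem line_herm {j : Fin 112} {z : Fin 4 → K9} (hz : z ∈ line j) :
    h4 z (lp j) = 0 ∧ h4 z (lq j) = 0 := by
  obtain ⟨a, b, rfl⟩ := mem_line.1 hz
  obtain ⟨e1, e2, e3, e4⟩ := iso_ok j
  rw [← herm_eq] at e1 e2 e3 e4 ⊢
  rw [← herm_eq, Unitary.herm_add_left, Unitary.herm_smul_left, Unitary.herm_smul_left,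
    Unitary.herm_add_left, Unitary.herm_smul_left, Unitary.herm_smul_left, e1, e2, e3, e4]
  simp

theorem line_injective {j k : Fin 112} (h : line j ≤ line k) : j = k := by
  rcases distinct_ok j k with e | e
  · exact e
  · obtain ⟨a, b⟩ := line_herm (h (Submodule.subset_span (Set.mem_insert _ _) : lp j ∈ line j))
    obtain ⟨c, d⟩ := line_herm (h (Submodule.subset_span
      (Set.mem_insert_of_mem _ rfl) : lq j ∈ line j))
    exact absurd ⟨a, b, c, d⟩ e

/-- A linear map fixing the lines is a scalar. -/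
theorem scalar_of_lines (A : Matrix (Fin 4) (Fin 4) K9)
    (h : ∀ j : Fin 112, ∀ z ∈ line j, Matrix.mulVec A z ∈ line j) :
    ∃ l : K9, ∀ z, Matrix.mulVec A z = l • z := by
  have hpt : ∀ k : Fin 5, ∃ c : K9, Matrix.mulVec A (pt5 k) = c • pt5 k := by
    intro k
    obtain ⟨k1, k2, ⟨a, b, hab⟩, ⟨c, d, hcd⟩⟩ := five_lines k
    have m1 : pt5 k ∈ line ⟨_, k1⟩ := mem_line.2 ⟨a, b, funext fun i => by simpa using hab i⟩
    have m2 : pt5 k ∈ line ⟨_, k2⟩ := mem_line.2 ⟨c, d, funext fun i => by simpa using hcd i⟩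
    obtain ⟨a', b', e⟩ := mem_line.1 (h _ _ m1)
    obtain ⟨z1, z2⟩ := line_herm (h _ _ m2)
    rw [← e] at z1 z2
    obtain ⟨s, hs⟩ := five_meet k a' b' z1 z2
    refine ⟨s, ?_⟩
    rw [← e]
    funext i
    simpa using hs i
  choose c hc using hpt
  have hcomb : ∀ a b c' d : K9, comb a b c' d =
      a • pt5 0 + b • pt5 1 + c' • pt5 2 + d • pt5 3 := fun a b c' d => by
    funext i; simp [comb]
  have h5 : pt5 4 = co5 0 • pt5 0 + co5 1 • pt5 1 + co5 2 • pt5 2 + co5 3 • pt5 3 := by
    rw [← hcomb]; funext i; exact (comb_five.1 i).symm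
  have e0 : Matrix.mulVec A (pt5 0) = c 0 • pt5 0 := hc 0
  have e1 : Matrix.mulVec A (pt5 1) = c 1 • pt5 1 := hc 1
  have e2 : Matrix.mulVec A (pt5 2) = c 2 • pt5 2 := hc 2
  have e3 : Matrix.mulVec A (pt5 3) = c 3 • pt5 3 := hc 3
  have e4 : Matrix.mulVec A (pt5 4) = c 4 • pt5 4 := hc 4
  have hz : comb ((c 0 - c 4) * co5 0) ((c 1 - c 4) * co5 1) ((c 2 - c 4) * co5 2)
      ((c 3 - c 4) * co5 3) = 0 := by
    rw [hcomb]
    rw [h5, Matrix.mulVec_add, Matrix.mulVec_add, Matrix.mulVec_add, Matrix.mulVec_smul,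
      Matrix.mulVec_smul, Matrix.mulVec_smul, Matrix.mulVec_smul, e0, e1, e2, e3] at e4
    funext i
    have := congrFun e4 i
    simp only [Pi.add_apply, Pi.smul_apply, smul_eq_mul, Pi.zero_apply] at this ⊢
    linear_combination this
  obtain ⟨q0, q1, q2, q3⟩ := comb_inj _ _ _ _ fun i => congrFun hz i
  obtain ⟨-, n0, n1, n2, n3⟩ := comb_five
  have f0 : c 0 = c 4 := sub_eq_zero.1 ((mul_eq_zero.1 q0).resolve_right n0)
  have f1 : c 1 = c 4 := sub_eq_zero.1 ((mul_eq_zero.1 q1).resolve_right n1)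
  have f2 : c 2 = c 4 := sub_eq_zero.1 ((mul_eq_zero.1 q2).resolve_right n2)
  have f3 : c 3 = c 4 := sub_eq_zero.1 ((mul_eq_zero.1 q3).resolve_right n3)
  have hinj : Function.Injective fun p : K9 × K9 × K9 × K9 => comb p.1 p.2.1 p.2.2.1 p.2.2.2 := by
    intro p q hpq
    obtain ⟨r0, r1, r2, r3⟩ := comb_inj (p.1 - q.1) (p.2.1 - q.2.1) (p.2.2.1 - q.2.2.1)
      (p.2.2.2 - q.2.2.2) fun i => by
        have := congrFun hpq i
        simp only [comb] at this ⊢
        linear_combination this
    exact Prod.ext (sub_eq_zero.1 r0) (Prod.ext (sub_eq_zero.1 r1)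
      (Prod.ext (sub_eq_zero.1 r2) (sub_eq_zero.1 r3)))
  have hcard : Fintype.card (K9 × K9 × K9 × K9) = Fintype.card (Fin 4 → K9) := by
    simp only [Fintype.card_prod, Fintype.card_fun, Fintype.card_fin]
    ring
  have hsurj := ((Fintype.bijective_iff_injective_and_card _).2 ⟨hinj, hcard⟩).2
  refine ⟨c 4, fun z => ?_⟩
  obtain ⟨p, rfl⟩ := hsurj z
  show Matrix.mulVec A (comb p.1 p.2.1 p.2.2.1 p.2.2.2) = c 4 • comb p.1 p.2.1 p.2.2.1 p.2.2.2
  rw [hcomb, Matrix.mulVec_add, Matrix.mulVec_add, Matrix.mulVec_add, Matrix.mulVec_smul,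
    Matrix.mulVec_smul, Matrix.mulVec_smul, Matrix.mulVec_smul, e0, e1, e2, e3, f0, f1, f2, f3]
  simp only [smul_add, smul_comm (c 4)]

/-! ### The two generators -/

theorem card_k9' : Fintype.card K9 = 3 ^ 2 := card_k9

theorem matN_mem (g : Fin 2) :
    (⟨matN g, det_ok g⟩ : Matrix.SpecialLinearGroup (Fin 4) K9) ∈ Cfsg.SU 4 K9 3 := by
  show ∀ a b, hermForm 4 K9 3 (Matrix.mulVec (matN g) a) (Matrix.mulVec (matN g) b) =
    hermForm 4 K9 3 a b
  rw [AutPSU.preserving_iff_ct card_k9']
  ext i k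
  have h := unitary_ok g i k
  simp only [AutPSU.ct, Matrix.mul_apply, Matrix.transpose_apply, Matrix.map_apply,
    Unitary.conj_apply, Fin.sum_univ_four, pow_succ, pow_zero, one_mul, Matrix.one_apply]
  exact h

/-- A generator in the unitary group. -/
noncomputable def genU (g : Fin 2) : Cfsg.SU 4 K9 3 := ⟨⟨matN g, det_ok g⟩, matN_mem g⟩

theorem atomElt_mem (g : Fin 2) : atomElt g ∈ G0 := by
  have hok : ∀ g : Fin 2, appWord (atoms.getD g.1 []) lu0 = lu0 ∧
      appWord (atoms.getD g.1 []) lv0 = lv0 ∧ appWord (atoms.getD g.1 []) lx0 = lx0 := by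
    decide +kernel
  obtain ⟨a, b, c⟩ := hok g
  refine ⟨⟨lv_injective ?_, lv_injective ?_⟩, lv_injective ?_⟩ <;>
    rw [atomElt, lv_word (atom_all g)]
  · rw [lv_u0]; exact a
  · rw [lv_v0]; exact b
  · rw [lv_x0]; exact c

theorem main : Nonempty (G0 ≃* Cfsg.PSU 4 K9 3) := by
  classical
  haveI : Finite Co0 := Nat.finite_of_card_ne_zero (by rw [card_co0]; omega)
  let M : Submonoid (G0 × Cfsg.SU 4 K9 3) :=
    { carrier := {p | ∀ j : Fin 112, ∃ j' : Fin 112, (p.1 : Co0) • y j = y j' ∧
        ∀ z ∈ line j, Matrix.mulVec p.2.1.1 z ∈ line j'}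
      one_mem' := fun j => ⟨j, one_smul _ _, fun z hz => by simpa using hz⟩
      mul_mem' := by
        rintro ⟨a, A⟩ ⟨b, B⟩ ha hb j
        obtain ⟨j', e, h⟩ := hb j
        obtain ⟨j'', e', h'⟩ := ha j'
        refine ⟨j'', ?_, fun z hz => ?_⟩
        · show ((a : Co0) * (b : Co0)) • y j = _
          rw [mul_smul, e, e']
        · show Matrix.mulVec ((A * B : Cfsg.SU 4 K9 3).1.1) z ∈ _
          rw [Subgroup.coe_mul, Matrix.SpecialLinearGroup.coe_mul, ← Matrix.mulVec_mulVec]
          exact h' _ (h z hz) }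
  let p : Fin 2 → G0 × Cfsg.SU 4 K9 3 := fun g => (⟨atomElt g, atomElt_mem g⟩, genU g)
  have hp : ∀ g, p g ∈ M := by
    intro g j
    refine ⟨⟨_, (atom_ok g j).1⟩, lv_injective ?_, fun z hz => ?_⟩
    · show lv (atomElt g • y j) = _
      rw [atomElt, lv_word (atom_all g), lv_y, lv_y]
      exact (atom_ok g j).2
    · show Matrix.mulVec (matN g) z ∈ _
      obtain ⟨a, b, rfl⟩ := mem_line.1 hz
      have himg : Matrix.mulVec (matN g) (lp j) ∈ line ⟨_, (atom_ok g j).1⟩ ∧
          Matrix.mulVec (matN g) (lq j) ∈ line ⟨_, (atom_ok g j).1⟩ := by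
        constructor
        · exact mem_line.2 ⟨cf g j 0, cf g j 1, funext fun i => by
            rw [mulVec_eq]; simpa using ((image_ok g j i).1).symm⟩
        · exact mem_line.2 ⟨cf g j 2, cf g j 3, funext fun i => by
            rw [mulVec_eq]; simpa using ((image_ok g j i).2).symm⟩
      rw [Matrix.mulVec_add, Matrix.mulVec_smul, Matrix.mulVec_smul]
      exact add_mem (Submodule.smul_mem _ _ himg.1) (Submodule.smul_mem _ _ himg.2)
  let K : Subgroup (G0 × Cfsg.SU 4 K9 3) := Subgroup.closure (Set.range p)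
  have hK : ∀ a ∈ K, a ∈ M := by
    intro a ha
    have : a ∈ Submonoid.closure (Set.range p) := by
      rw [← Subgroup.closure_toSubmonoid_of_finite]; exact ha
    refine Submonoid.closure_le.2 ?_ this
    rintro _ ⟨g, rfl⟩
    exact hp g
  let π : K → Fin 112 → Fin 112 := fun a j => (hK a.1 a.2 j).choose
  have hπ : ∀ (a : K) j, (a.1.1 : Co0) • y j = y (π a j) ∧
      ∀ z ∈ line j, Matrix.mulVec a.1.2.1.1 z ∈ line (π a j) := fun a j =>
    (hK a.1 a.2 j).choose_spec
  have hπ1 : ∀ j, π 1 j = j := fun j => y_injective (((hπ 1 j).1).symm.trans (one_smul _ _))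
  have hπm : ∀ a b j, π (a * b) j = π a (π b j) := by
    intro a b j
    apply y_injective
    rw [← (hπ (a * b) j).1, ← (hπ a _).1, ← (hπ b j).1, ← mul_smul]
    rfl
  let ρ : K →* Equiv.Perm (Fin 112) :=
    { toFun := fun a =>
        { toFun := π a
          invFun := π a⁻¹
          left_inv := fun j => by rw [← hπm, inv_mul_cancel, hπ1]
          right_inv := fun j => by rw [← hπm, mul_inv_cancel, hπ1] }
      map_one' := Equiv.ext hπ1
      map_mul' := fun a b => Equiv.ext (hπm a b) }
  let f : K →* G0 := (MonoidHom.fst _ _).comp K.subtype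
  let s : K →* Cfsg.PSU 4 K9 3 :=
    (QuotientGroup.mk' _).comp ((MonoidHom.snd _ _).comp K.subtype)
  have hfs : f.ker ≤ s.ker := by
    intro a ha
    have h1 : a.1.1 = 1 := ha
    have hfix : ∀ j, π a j = j := fun j => y_injective (by
      rw [← (hπ a j).1, h1, Subgroup.coe_one, one_smul])
    obtain ⟨l, hl⟩ := scalar_of_lines a.1.2.1.1 fun j z hz => by
      have := (hπ a j).2 z hz
      rwa [hfix] at this
    show QuotientGroup.mk' _ a.1.2 = 1
    rw [QuotientGroup.mk'_apply, QuotientGroup.eq_one_iff,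
      Unitary.mem_center_SU_iff card_k9' (by norm_num)]
    exact ⟨l, hl⟩
  have hsρ : s.ker ≤ ρ.ker := by
    intro a ha
    have ha' : a.1.2 ∈ Subgroup.center (Cfsg.SU 4 K9 3) := (QuotientGroup.eq_one_iff _).1 ha
    obtain ⟨l, hl⟩ := (Unitary.mem_center_SU_iff card_k9' (by norm_num) _).1 ha'
    refine Equiv.ext fun j => (line_injective fun z hz => ?_).symm
    have hl0 : l ≠ 0 := by
      intro h0
      have h := hl (Pi.single 0 1)
      rw [h0, zero_smul] at h
      have h' := congrArg (Matrix.mulVec (a.1.2⁻¹ : Cfsg.SU 4 K9 3).1.1) h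
      rw [Matrix.mulVec_mulVec, ← Matrix.SpecialLinearGroup.coe_mul, ← Subgroup.coe_mul,
        inv_mul_cancel, Subgroup.coe_one, Matrix.SpecialLinearGroup.coe_one, Matrix.one_mulVec,
        Matrix.mulVec_zero] at h'
      exact one_ne_zero (Pi.single_eq_same (M := fun _ : Fin 4 => K9) 0 (1 : K9) ▸ congrFun h' 0)
    have := (hπ a j).2 z hz
    rw [hl z] at this
    exact (Submodule.smul_mem_iff _ hl0).1 this
  have hρ : 3265920 ≤ Nat.card ρ.range := by
    have hc := (permRep 112 7 (by decide)).card_closure side_check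
    have ho : (permRep 112 7 (by decide)).order side_chain = 3265920 := by decide +kernel
    rw [ho] at hc
    rw [← hc]
    refine Subgroup.card_le_of_le ?_
    rw [Subgroup.closure_le]
    rintro _ ⟨c, hc', rfl⟩
    have hg : ∀ g : Fin 2, okPerm 112 7 (side_gens.getD g 0) = true := by decide +kernel
    have hmem : ∃ g : Fin 2, side_gens.getD g 0 = c := by
      have hl : side_gens.length = 2 := rfl
      obtain ⟨i, hi, rfl⟩ := List.mem_iff_getElem.1 hc'
      exact ⟨⟨i, hl ▸ hi⟩, List.getD_eq_getElem _ _ hi⟩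
    obtain ⟨g, rfl⟩ := hmem
    refine ⟨⟨p g, Subgroup.subset_closure ⟨g, rfl⟩⟩, Equiv.ext fun j => ?_⟩
    show π _ j = decodeP 112 7 (side_gens.getD g 0) j
    apply y_injective
    rw [← (hπ _ j).1]
    apply lv_injective
    show lv (atomElt g • y j) = _
    rw [atomElt, lv_word (atom_all g), lv_y, lv_y, decodeP_apply (hg g)]
    exact (atom_ok g j).2
  have hN : Nat.card (Cfsg.PSU 4 K9 3) = 3265920 := by
    have h := Cfsg.Agent.S0280.result (F := K9) (q := 3) card_k9 4 (by omega)
    norm_num [Finset.prod_range_succ, Nat.even_iff] at h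
    rw [Nat.card_eq_fintype_card]; omega
  haveI : Finite (Cfsg.PSU 4 K9 3) := Nat.finite_of_card_ne_zero (by omega)
  have hle : ∀ {A B : Type} [Group A] [Group B] (φ : K →* A) (ψ : K →* B), φ.ker ≤ ψ.ker →
      Nat.card ψ.range ≤ Nat.card φ.range := by
    intro A B _ _ φ ψ h
    rw [← Subgroup.index_ker, ← Subgroup.index_ker]
    exact Nat.le_of_dvd (Nat.pos_of_ne_zero Subgroup.index_ne_zero_of_finite)
      (Subgroup.index_dvd_of_le h)
  have r1 : Nat.card ρ.range ≤ Nat.card s.range := hle s ρ hsρ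
  have r2 : Nat.card s.range ≤ Nat.card f.range := hle f s hfs
  have hf : Function.Surjective f := by
    rw [← MonoidHom.range_eq_top]
    exact Subgroup.eq_top_of_le_card _ (by rw [card_G0]; omega)
  have hs : Function.Surjective s := by
    rw [← MonoidHom.range_eq_top]
    exact Subgroup.eq_top_of_le_card _ (by rw [hN]; omega)
  have hif : f.ker.index = 3265920 := by
    rw [Subgroup.index_ker, MonoidHom.range_eq_top.2 hf, Subgroup.card_top, card_G0]
  have his : s.ker.index = 3265920 := by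
    rw [Subgroup.index_ker, MonoidHom.range_eq_top.2 hs, Subgroup.card_top, hN]
  have hker : f.ker = s.ker := by
    have hm := Subgroup.relIndex_mul_index hfs
    rw [hif, his] at hm
    exact le_antisymm hfs (Subgroup.relIndex_eq_one.1 (by omega))
  exact ⟨(QuotientGroup.quotientKerEquivOfSurjective f hf).symm.trans
    ((QuotientGroup.quotientMulEquivOfEq hker).trans
      (QuotientGroup.quotientKerEquivOfSurjective s hs))⟩

/-- The stabiliser of any such triple, over any field with nine elements. -/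
theorem stabilizer_equiv {u v x : leechLattice} (hu : sqNorm (vec u) = 48)
    (hv : sqNorm (vec v) = 32) (hx : sqNorm (vec x) = 32) (huv : dotInt (vec u) (vec v) = 24)
    (hux : dotInt (vec u) (vec x) = 24) (hvx : dotInt (vec v) (vec x) = 16)
    (F : Type) [Field F] [Fintype F] (hF : Fintype.card F = 9) :
    Nonempty (↥(MulAction.stabilizer Co0 u ⊓ MulAction.stabilizer Co0 v ⊓
      MulAction.stabilizer Co0 x) ≃* Cfsg.PSU 4 F 3) := by
  obtain ⟨g, h1, h2, h3⟩ := LeechTriples.transitive275 hu hv hx huv hux hvx sqNorm_u0 sqNorm_v0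
    sqNorm_x0 dot_u0_v0 dot_u0_x0 dot_v0_x0
  have e : G0 = (MulAction.stabilizer Co0 u ⊓ MulAction.stabilizer Co0 v ⊓
      MulAction.stabilizer Co0 x).map (MulAut.conj g).toMonoidHom := by
    show MulAction.stabilizer Co0 u0 ⊓ MulAction.stabilizer Co0 v0 ⊓
      MulAction.stabilizer Co0 x0 = _
    rw [Subgroup.map_inf _ _ _ (MulAut.conj g).injective,
      Subgroup.map_inf _ _ _ (MulAut.conj g).injective, ← h1, ← h2, ← h3,
      MulAction.stabilizer_smul_eq_stabilizer_map_conj,
      MulAction.stabilizer_smul_eq_stabilizer_map_conj,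
      MulAction.stabilizer_smul_eq_stabilizer_map_conj]
  obtain ⟨e1⟩ := main
  obtain ⟨e2⟩ := exists_psu_congr (FiniteField.ringEquivOfCardEq (K := K9) (K' := F)
    (card_k9.trans (hF.trans (by norm_num)).symm)) 4 3
  exact ⟨(Subgroup.equivMapOfInjective _ _ (MulAut.conj g).injective).trans
    ((MulEquiv.subgroupCongr e).symm.trans (e1.trans e2))⟩

end Cfsg.Agent.Lib.LatticeUnitary.U4
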