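import Cfsg.Agent.Lib.LatticeUnitary.U4Data
import Cfsg.Agent.Lib.U33.Arith
import Cfsg.Prelude.Def_Classical

/-! The kernel checks of the labelling of vectors by lines. -/

set_option autoImplicit false
set_option maxRecDepth 20000
set_option Elab.async false

namespace Cfsg.Agent.Lib.LatticeUnitary.U4

open Cfsg Cfsg.Agent.Lib.Co3Model Cfsg.Agent.Lib.U33
open Cfsg.Agent.Lib.Computation (getW)

/-- The coordinates of a coded vector. -/
def decY (c : ℕ) : List ℤ :=
  (List.range 24).map fun i => ((((c >>> (4 * (23 - i))) % 16 : ℕ) : ℤ) - 8)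

/-- The code of a list of coordinates. -/
def encY (L : List ℤ) : ℕ :=
  L.foldl (fun acc x => acc * 16 + (x + 8).toNat) 0

/-- The code of a vector of the list. -/
def yc (j : ℕ) : ℕ := getW 96 codes j

/-- The effect of an automorphism on the labels. -/
def atomPerm (g j : ℕ) : ℕ := getW 7 (side_gens.getD g 0) j

/-- A vector of the unitary space. -/
def vecN (n : ℕ) : Fin 4 → K9 := fun k => kE (getW 4 n k)

/-- The first spanning vector of a line. -/
def lp (j : ℕ) : Fin 4 → K9 := vecN (getW 16 lineP j)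

/-- The second spanning vector of a line. -/
def lq (j : ℕ) : Fin 4 → K9 := vecN (getW 16 lineQ j)

/-- A matrix of the list. -/
def matN (g : ℕ) : Matrix (Fin 4) (Fin 4) K9 :=
  Matrix.of fun i k => kE (getW 4 (mats.getD g 0) (4 * i + k))

/-- A stored coefficient. -/
def cf (g j k : ℕ) : K9 := kE (getW 4 (getW 16 (coefs.getD g 0) j) k)

/-- Four sums of products. -/
def mulV (g : ℕ) (x : Fin 4 → K9) : Fin 4 → K9 := fun i =>
  matN g i 0 * x 0 + matN g i 1 * x 1 + matN g i 2 * x 2 + matN g i 3 * x 3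

theorem mulVec_eq (g : ℕ) (x : Fin 4 → K9) : Matrix.mulVec (matN g) x = mulV g x := by
  funext i
  simp [Matrix.mulVec, dotProduct, mulV, Fin.sum_univ_four]

theorem atoms_ok : (atoms.all fun w => w.all Op.ok) = true := by decide +kernel

theorem atom_ok : ∀ g : Fin 2, ∀ j : Fin 112, atomPerm g j < 112 ∧
    appWord (atoms.getD g []) (decY (yc j)) = decY (yc (atomPerm g j)) := by decide +kernel

theorem code_ok : ∀ j : Fin 112, encY (decY (yc j)) = yc j ∧
    (j.1 = 111 ∨ yc j < yc (j + 1 : ℕ)) := by decide +kernel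

theorem par_ok : ∀ j : Fin 112, j.1 = root ∨ (getW 16 par j % 128 < 112 ∧
    atomPerm (getW 16 par j >>> 7 % 2) (getW 16 par j % 128) = j ∧
    getW 16 par (getW 16 par j % 128) >>> 8 < getW 16 par j >>> 8) := by decide +kernel

theorem image_ok : ∀ g : Fin 2, ∀ j : Fin 112, ∀ i : Fin 4,
    mulV g (lp j) i = cf g j 0 * lp (atomPerm g j) i + cf g j 1 * lq (atomPerm g j) i ∧
      mulV g (lq j) i = cf g j 2 * lp (atomPerm g j) i + cf g j 3 * lq (atomPerm g j) i := by
  decide +kernel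

/-- The form, coordinatewise. -/
def h4 (x y : Fin 4 → K9) : K9 :=
  x 0 * (y 0 * y 0 * y 0) + x 1 * (y 1 * y 1 * y 1) + x 2 * (y 2 * y 2 * y 2) +
    x 3 * (y 3 * y 3 * y 3)

theorem herm_eq (x y : Fin 4 → K9) : hermForm 4 K9 3 x y = h4 x y := by
  simp only [hermForm, Fin.sum_univ_four, h4, pow_succ, pow_zero, one_mul]

theorem iso_ok : ∀ j : Fin 112, h4 (lp j) (lp j) = 0 ∧ h4 (lp j) (lq j) = 0 ∧
    h4 (lq j) (lp j) = 0 ∧ h4 (lq j) (lq j) = 0 := by decide +kernel

theorem distinct_ok : ∀ j k : Fin 112, j = k ∨ ¬(h4 (lp j) (lp k) = 0 ∧ h4 (lp j) (lq k) = 0 ∧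
    h4 (lq j) (lp k) = 0 ∧ h4 (lq j) (lq k) = 0) := by decide +kernel

/-- A point of the five. -/
def pt5 (k : ℕ) : Fin 4 → K9 := vecN (five.getD k 0)

/-- A line through one of them. -/
def ln5 (k : ℕ) : ℕ × ℕ := fiveLines.getD k (0, 0)

/-- A coefficient of the fifth. -/
def co5 (k : ℕ) : K9 := kE (fiveCo.getD k 0)

theorem five_lines : ∀ k : Fin 5, (ln5 k).1 < 112 ∧ (ln5 k).2 < 112 ∧
    (∃ a b : K9, ∀ i : Fin 4, a * lp (ln5 k).1 i + b * lq (ln5 k).1 i = pt5 k i) ∧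
    (∃ a b : K9, ∀ i : Fin 4, a * lp (ln5 k).2 i + b * lq (ln5 k).2 i = pt5 k i) := by
  decide +kernel

theorem five_meet : ∀ k : Fin 5, ∀ a b : K9,
    h4 (fun i => a * lp (ln5 k).1 i + b * lq (ln5 k).1 i) (lp (ln5 k).2) = 0 →
    h4 (fun i => a * lp (ln5 k).1 i + b * lq (ln5 k).1 i) (lq (ln5 k).2) = 0 →
    ∃ c : K9, ∀ i : Fin 4, a * lp (ln5 k).1 i + b * lq (ln5 k).1 i = c * pt5 k i := by
  decide +kernel

/-- A combination of the first four points. -/
def comb (a b c d : K9) : Fin 4 → K9 := fun i =>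
  a * pt5 0 i + b * pt5 1 i + c * pt5 2 i + d * pt5 3 i

theorem comb_inj : ∀ a b c d : K9, (∀ i : Fin 4, comb a b c d i = 0) →
    a = 0 ∧ b = 0 ∧ c = 0 ∧ d = 0 := by decide +kernel

theorem comb_five : (∀ i : Fin 4, comb (co5 0) (co5 1) (co5 2) (co5 3) i = pt5 4 i) ∧
    co5 0 ≠ 0 ∧ co5 1 ≠ 0 ∧ co5 2 ≠ 0 ∧ co5 3 ≠ 0 := by decide +kernel

theorem unitary_ok : ∀ g : Fin 2, ∀ i k : Fin 4,
    (matN g 0 i * matN g 0 i * matN g 0 i) * matN g 0 k +
      (matN g 1 i * matN g 1 i * matN g 1 i) * matN g 1 k +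
      (matN g 2 i * matN g 2 i * matN g 2 i) * matN g 2 k +
      (matN g 3 i * matN g 3 i * matN g 3 i) * matN g 3 k = if i = k then 1 else 0 := by
  decide +kernel

theorem det_ok : ∀ g : Fin 2, (matN g).det = 1 := by decide +kernel

end Cfsg.Agent.Lib.LatticeUnitary.U4
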