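import Cfsg.Agent.Lib.LatticeUnitary.U6Cert
import Cfsg.Agent.Lib.LatticeUnitary.Transport
import Cfsg.Agent.Lib.CosetEnum.U62Slp
import Cfsg.Agent.Lib.CosetEnum.Ident
import Cfsg.Agent.S0280
import Cfsg.Agent.Lib.SporStruct.LeechCounts

/-!
The joint stabiliser of two minimal vectors with inner product `-16` is the six-dimensional
projective special unitary group over four elements: both act on 891 things, the minimal vectors
with inner products `-16, 0` with the pair and the totally isotropic planes, and a subgroup of the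
product respecting a common labelling projects bijectively to both.
-/

set_option autoImplicit false
set_option maxRecDepth 20000
set_option Elab.async false

namespace Cfsg.Agent.Lib.LatticeUnitary.U6

open Cfsg Cfsg.Agent.Lib.CosetEnum Cfsg.Agent.Lib.ConwayOut Cfsg.Agent.Lib.Leech
open Cfsg.Agent.Lib.SporStruct Cfsg.Agent.Lib.Golay
open Cfsg.Agent.Lib.G24

theorem card_psu : Nat.card (Cfsg.PSU 6 K4 2) = 9196830720 := by
  have h := Cfsg.Agent.S0280.result (F := K4) (q := 2) (by rw [K4.card_eq]; rfl) 6 (by omega)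
  norm_num [Finset.prod_range_succ] at h
  omega

/-! ### The standard pair -/

/-- The first vector of the standard pair. -/
noncomputable def v0 : leechLattice := LeechPairs.pp (pt 23) (pt 0)

/-- The second vector of the standard pair. -/
noncomputable def w0 : leechLattice := LeechPairs.pn (pt 1) (pt 23)

/-- The first packed vector. -/
def lv0 : ℕ := Computation.packW 5 (fun i => if i = 23 ∨ i = 0 then 20 else 16) 24

/-- The second packed vector. -/
def lw0 : ℕ := Computation.packW 5 (fun i => if i = 1 then 20 else if i = 23 then 12 else 16) 24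

theorem pk_v0 : pk v0 = lv0 := by decide +kernel

theorem pk_w0 : pk w0 = lw0 := by decide +kernel

theorem pk_root : pk (LeechPairs.pn (pt 2) (pt 0)) = yc root := by decide +kernel

theorem fix_ok : ((List.range 8).all fun a =>
    decide (appW (atoms.getD a []) lv0 = lv0 ∧ appW (atoms.getD a []) lw0 = lw0)) = true := by
  decide +kernel

theorem pt_ne {i j : ℕ} (hi : i < 24) (hj : j < 24) (h : i ≠ j) : pt i ≠ pt j := fun e =>
  h (by rw [← idx_pt hi, e, idx_pt hj])

theorem sqNorm_v0 : sqNorm (vec v0) = 32 :=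
  LeechPairs.norm_pp (pt_ne (by omega) (by omega) (by omega))

theorem sqNorm_w0 : sqNorm (vec w0) = 32 :=
  LeechPairs.norm_pn (pt_ne (by omega) (by omega) (by omega))

theorem dot_v0_w0 : dotInt (vec v0) (vec w0) = -16 := by decide +kernel

/-! ### The stabiliser -/

/-- The joint stabiliser of the standard pair. -/
noncomputable abbrev G0 : Subgroup Co0 :=
  MulAction.stabilizer Co0 v0 ⊓ MulAction.stabilizer Co0 w0

theorem card_G0 : Nat.card G0 = 9196830720 := by
  classical
  set S := MulAction.stabilizer Co0 v0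
  have hS : Nat.card S = 42305421312000 := card_stab32 sqNorm_v0
  have horb : MulAction.orbit S w0 = ↑((LeechCounts.shell 32).filter fun x =>
      dotInt (vec v0) (vec x) = -16) := by
    ext x
    simp only [Finset.coe_filter, LeechCounts.mem_shell, Set.mem_ofPred_eq]
    constructor
    · rintro ⟨⟨g, hg⟩, rfl⟩
      change sqNorm (vec (g • w0)) = _ ∧ dotInt (vec v0) (vec (g • w0)) = -16
      refine ⟨(norm_smul' g w0).trans sqNorm_w0, ?_⟩
      have h := dot_smul g v0 w0
      rw [MulAction.mem_stabilizer_iff.1 hg] at h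
      exact h.trans dot_v0_w0
    · rintro ⟨hn, hd⟩
      obtain ⟨g, h1, h2⟩ := LeechPairs.pair_transitive sqNorm_v0 sqNorm_w0 sqNorm_v0 hn
        (dot_v0_w0.trans hd.symm) (Or.inl hd)
      exact ⟨⟨g, h1⟩, h2⟩
  have hindex : (MulAction.stabilizer S w0).index = 4600 := by
    rw [MulAction.index_stabilizer, horb, Set.ncard_coe_finset]
    exact (LeechCounts.count32 sqNorm_v0).1
  have h := (MulAction.stabilizer S w0).card_mul_index
  rw [hindex, hS] at h
  have e : G0 = (MulAction.stabilizer S w0).map S.subtype := by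
    ext g
    simp only [Subgroup.mem_map, Subgroup.mem_inf, Subgroup.subtype_apply]
    constructor
    · rintro ⟨h1, h2⟩
      exact ⟨⟨g, h1⟩, h2, rfl⟩
    · rintro ⟨x, hx, rfl⟩
      exact ⟨x.2, hx⟩
  rw [e, ← Nat.card_congr ((MulAction.stabilizer S w0).equivMapOfInjective _
    S.subtype_injective).toEquiv]
  omega

theorem atom_all {a : ℕ} (ha : a < 8) : okW (atoms.getD a []) = true := by
  refine List.all_eq_true.1 atoms_ok _ ?_
  rw [List.getD_eq_getElem _ _ (show a < atoms.length from ha)]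
  exact List.getElem_mem _

theorem exists_y : ∀ j < 891, ∃ y : leechLattice, sqNorm (vec y) ≤ 64 ∧ pk y = yc j := by
  suffices H : ∀ d j, j < 891 → (get32 par j) >>> 16 = d →
      ∃ y : leechLattice, sqNorm (vec y) ≤ 64 ∧ pk y = yc j from fun j hj => H _ j hj rfl
  intro d
  induction d using Nat.strong_induction_on with
  | _ d ih =>
    intro j hj hd
    have h := allBelow_iff.1 par_ok j hj
    simp only [parAt, force_eq, Bool.or_eq_true, Bool.and_eq_true, Nat.blt_eq, Nat.beq_eq] at h
    rcases h with h | ⟨⟨⟨hp, ha⟩, hj'⟩, hlt⟩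
    · exact ⟨_, (LeechPairs.norm_pn (pt_ne (i := 2) (j := 0) (by omega) (by omega) (by omega))).le.trans
        (by norm_num), h ▸ pk_root⟩
    · obtain ⟨y, hy0, hy⟩ := ih _ (hd ▸ hlt) _ hp rfl
      have h' := allBelow_iff.1 (allBelow_iff.1 atom_ok _ hp) _ ha
      simp only [force_eq, Bool.and_eq_true, Nat.beq_eq] at h'
      refine ⟨atomElt (Nat.mod (Nat.shiftRight (get32 par j) 10) 64) • y,
        by rw [norm_smul']; exact hy0, ?_⟩
      rw [atomElt, eltW_app (atom_all ha) y hy0, hy, h'.2]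
      exact congrArg yc hj'

/-- A vector of the list. -/
noncomputable def y (j : Fin 891) : leechLattice := (exists_y j.1 j.2).choose

theorem norm_y (j : Fin 891) : sqNorm (vec (y j)) ≤ 64 := (exists_y j.1 j.2).choose_spec.1

theorem pk_y (j : Fin 891) : pk (y j) = yc j.1 := (exists_y j.1 j.2).choose_spec.2

theorem y_injective : Function.Injective y := by
  have hmono : StrictMono fun j : Fin 891 => yc j.1 := by
    refine Fin.strictMono_iff_lt_succ.2 fun i => ?_
    have h := allBelow_iff.1 code_ok i.1 (by omega)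
    simp only [codeAt, Bool.or_eq_true, Nat.beq_eq, Nat.blt_eq] at h
    rcases h with h2 | h2
    · omega
    · simpa using h2
  intro a b hab
  refine hmono.injective ?_
  show yc a.1 = yc b.1
  rw [← pk_y, ← pk_y, hab]

theorem atomElt_spec {a : ℕ} (ha : a < 8) :
    (atomElt a • v0 = v0 ∧ atomElt a • w0 = w0) ∧
      ∀ j : Fin 891, ∃ j' : Fin 891, j'.1 = atomPerm a j.1 ∧ atomElt a • y j = y j' := by
  have hok := atom_all ha
  have hf := List.all_eq_true.1 fix_ok a (List.mem_range.2 ha)
  simp only [decide_eq_true_eq] at hf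
  have hv : sqNorm (vec v0) ≤ 64 := by rw [sqNorm_v0]; norm_num
  have hw : sqNorm (vec w0) ≤ 64 := by rw [sqNorm_w0]; norm_num
  refine ⟨⟨pk_injective (by rw [norm_smul']; exact hv) hv ?_,
    pk_injective (by rw [norm_smul']; exact hw) hw ?_⟩, fun j => ?_⟩
  · rw [atomElt, eltW_app hok _ hv, pk_v0]; exact hf.1
  · rw [atomElt, eltW_app hok _ hw, pk_w0]; exact hf.2
  · have h := allBelow_iff.1 (allBelow_iff.1 atom_ok j.1 j.2) a ha
    simp only [force_eq, Bool.and_eq_true, Nat.beq_eq, Nat.blt_eq] at h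
    refine ⟨⟨_, h.1⟩, rfl, pk_injective (by rw [norm_smul']; exact norm_y j) (norm_y _) ?_⟩
    rw [atomElt, eltW_app hok _ (norm_y j), pk_y, pk_y]; exact h.2

theorem word_spec : ∀ w : List ℕ, (∀ a ∈ w, a < 8) →
    (((w.map atomElt).prod • v0 = v0 ∧ (w.map atomElt).prod • w0 = w0) ∧
      ∀ j : Fin 891, ∃ j' : Fin 891, j'.1 = wordPerm w j.1 ∧ (w.map atomElt).prod • y j = y j')
  | [], _ => ⟨⟨one_smul _ _, one_smul _ _⟩, fun j => ⟨j, rfl, one_smul _ _⟩⟩
  | a :: w, h => by
    obtain ⟨⟨hv, hw⟩, hy⟩ := word_spec w fun b hb => h b (List.mem_cons_of_mem _ hb)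
    obtain ⟨⟨av, aw⟩, ay⟩ := atomElt_spec (h a (by simp))
    simp only [List.map_cons, List.prod_cons, mul_smul]
    refine ⟨⟨by rw [hv, av], by rw [hw, aw]⟩, fun j => ?_⟩
    obtain ⟨j', hj', e⟩ := hy j
    obtain ⟨j'', hj'', e'⟩ := ay j'
    refine ⟨j'', ?_, by rw [e, e']⟩
    rw [hj'', hj']
    show _ = force (wordPerm w j.1) fun i => atomPerm a i
    rw [force_eq]

/-- Pairs that respect the labelling. -/
def Match : Submonoid (Co0 × Cfsg.PSU 6 K4 2) where
  carrier := {p | (p.1 • v0 = v0 ∧ p.1 • w0 = w0) ∧ ∀ j : Fin 891, ∃ j' : Fin 891,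
    p.1 • y j = y j' ∧ ∀ i : Fin 693, InPlane i.1 j.1 → InPlane (U62.σbar p.2 i).1 j'.1}
  one_mem' := ⟨⟨one_smul _ _, one_smul _ _⟩, fun j => ⟨j, one_smul _ _, fun i hi => by
    simpa using hi⟩⟩
  mul_mem' := by
    rintro ⟨a, x⟩ ⟨b, z⟩ ⟨⟨av, aw⟩, ay⟩ ⟨⟨bv, bw⟩, bz⟩
    refine ⟨⟨?_, ?_⟩, fun j => ?_⟩
    · show (a * b) • v0 = v0
      rw [mul_smul, bv, av]
    · show (a * b) • w0 = w0
      rw [mul_smul, bw, aw]
    · obtain ⟨j', e, hi⟩ := bz j
      obtain ⟨j'', e', hi'⟩ := ay j'
      refine ⟨j'', ?_, fun i h => ?_⟩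
      · show (a * b) • y j = _
        rw [mul_smul, e, e']
      · show InPlane (U62.σbar (x * z) i).1 _
        rw [map_mul, Equiv.Perm.mul_apply]
        exact hi' _ (hi _ h)

theorem σbar_injective : Function.Injective U62.σbar := by
  haveI : Finite (Cfsg.PSU 6 K4 2) := Nat.finite_of_card_ne_zero (by rw [card_psu]; omega)
  choose! x hx using U62.exists_gen
  let φ : ℕ → Cfsg.PSU 6 K4 2 := fun c => if 0 < c ∧ c < 9 then x (c - 1) else 1
  refine injective_of_card U62.σbar ⟨by rw [card_psu]; omega, card_psu.le⟩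
    (U62Slp.card_ge U62.σbar φ fun c hc i => ?_)
  have hc9 : c < 9 := hc
  have hfw : ∀ m : Fin 693, (U62.σbar (φ c) m).1 = get32 U62.table (m.1 * 9 + c) := by
    intro m
    rcases Nat.eq_zero_or_pos c with rfl | h0
    · simp only [φ, lt_self_iff_false, false_and, if_false, map_one]
      exact (Nat.eq_of_beq_eq_true (Bool.and_eq_true_iff.1 (allBelow_iff.1 table_ok m.1 m.2)).1).symm
    · simp only [φ, if_pos (And.intro h0 hc9)]
      refine (hx (c - 1) (by omega) m).trans ?_
      rw [Nat.sub_add_cancel h0]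
  have h1 := allBelow_iff.1 (Bool.and_eq_true_iff.1 (allBelow_iff.1 table_ok i.1 i.2)).2 c hc9
  simp only [Bool.and_eq_true, Nat.beq_eq, Nat.blt_eq] at h1
  have h2 : U62.σbar (φ c) ⟨_, h1.2⟩ = i := Fin.ext ((hfw _).trans h1.1)
  rw [Equiv.Perm.inv_def, (Equiv.symm_apply_eq _).2 h2.symm]
  rfl

theorem main : Nonempty (G0 ≃* Cfsg.PSU 6 K4 2) := by
  classical
  haveI : Finite (Cfsg.PSU 6 K4 2) := Nat.finite_of_card_ne_zero (by rw [card_psu]; omega)
  haveI : Finite Co0 := Nat.finite_of_card_ne_zero (by rw [card_co0]; omega)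
  have hgen : ∀ g < 8, ∃ p : Co0 × Cfsg.PSU 6 K4 2, p ∈ Match ∧
      ∀ i : Fin 693, (U62.σbar p.2 i).1 = get32 U62.table (i.1 * 9 + (g + 1)) := by
    intro g hg
    obtain ⟨x, hx⟩ := U62.exists_gen g hg
    obtain ⟨hfix, hy⟩ := word_spec (words.getD g []) (words_lt g hg)
    refine ⟨⟨((words.getD g []).map atomElt).prod, x⟩, ⟨hfix, fun j => ?_⟩, hx⟩
    obtain ⟨j', hj', e⟩ := hy j
    refine ⟨j', e, ?_⟩
    rintro i ⟨k, hk, hki⟩
    have h := allBelow_iff.1 (allBelow_iff.1 plane_ok j.1 j.2) g hg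
    simp only [force_eq] at h
    have h' := allBelow_iff.1 h k hk
    simp only [force_eq, Nat.beq_eq] at h'
    rw [hx i, hj', ← testBit_mask, ← hki]
    show (mask _).testBit _ = true
    rw [Nat.testBit, Nat.one_and_eq_mod_two]
    rw [← Nat.and_one_is_mod]
    simpa [bne_iff_ne] using h'
  choose! p hp hpσ using hgen
  let K : Subgroup (Co0 × Cfsg.PSU 6 K4 2) := Subgroup.closure (p '' Set.Iio 8)
  have hK : ∀ a ∈ K, a ∈ Match := by
    intro a ha
    have : a ∈ Submonoid.closure (p '' Set.Iio 8) := by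
      rw [← Subgroup.closure_toSubmonoid_of_finite]; exact ha
    refine Submonoid.closure_le.2 ?_ this
    rintro _ ⟨g, hg, rfl⟩
    exact hp g hg
  let f : K →* G0 :=
    { toFun := fun a => ⟨a.1.1, (hK a.1 a.2).1⟩
      map_one' := rfl
      map_mul' := fun _ _ => rfl }
  have hf : Function.Injective f := by
    rw [injective_iff_map_eq_one]
    intro a ha
    have h1 : a.1.1 = 1 := congrArg Subtype.val ha
    have hσ : U62.σbar a.1.2 = 1 := by
      refine Equiv.ext fun i => Fin.ext ?_
      have hin : ∀ j : Fin 891, InPlane i.1 j.1 → InPlane (U62.σbar a.1.2 i).1 j.1 := by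
        intro j hj
        obtain ⟨j', e, h⟩ := (hK a.1 a.2).2 j
        rw [h1, one_smul] at e
        exact (y_injective e) ▸ h i hj
      have h := allBelow_iff.1 sep_ok i.1 i.2
      simp only [sepAt, force_eq, Bool.and_eq_true, Nat.blt_eq, Nat.beq_eq] at h
      obtain ⟨⟨⟨ha', hb'⟩, hc'⟩, hm⟩ := h
      have hbit : ∀ k : ℕ, (InPlane k (get32 sep i.1 % 1024) ∧
          InPlane k ((get32 sep i.1 >>> 10) % 1024) ∧ InPlane k (get32 sep i.1 >>> 20)) ↔ k = i.1 := by
        intro k
        change mask (get32 sep i.1 % 1024) &&& mask ((get32 sep i.1 >>> 10) % 1024) &&&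
          mask (get32 sep i.1 >>> 20) = 1 <<< i.1 at hm
        have hk := congrArg (fun m => Nat.testBit m k) hm
        simp only [Nat.testBit_and, Nat.one_shiftLeft, Nat.testBit_two_pow] at hk
        rw [← testBit_mask, ← testBit_mask, ← testBit_mask]
        constructor
        · rintro ⟨u1, u2, u3⟩
          rw [u1, u2, u3] at hk
          simpa [eq_comm] using hk
        · rintro rfl
          simp only [decide_true, Bool.and_eq_true] at hk
          exact ⟨hk.1.1, hk.1.2, hk.2⟩
      obtain ⟨u1, u2, u3⟩ := (hbit i.1).2 rfl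
      exact (hbit _).1 ⟨hin ⟨_, ha'⟩ u1, hin ⟨_, hb'⟩ u2, hin ⟨_, hc'⟩ u3⟩
    have hinj : Function.Injective U62.σbar := σbar_injective
    exact Subtype.ext (Prod.ext h1 (hinj (hσ.trans (map_one _).symm)))
  have hfin : Finite K := inferInstance
  let s : K →* Cfsg.PSU 6 K4 2 := (MonoidHom.snd _ _).comp K.subtype
  have hle : Nat.card K ≤ 9196830720 := card_G0 ▸ Nat.card_le_card_of_injective f hf
  let φ : ℕ → K := fun c => if h : 0 < c ∧ c < 9 then
    ⟨p (c - 1), Subgroup.subset_closure ⟨c - 1, by simp only [Set.mem_Iio]; omega, rfl⟩⟩ else 1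
  have hge : 9196830720 ≤ Nat.card (U62.σbar.comp s).range := by
    refine U62Slp.card_ge _ φ fun c hc i => ?_
    have hc9 : c < 9 := hc
    have hfw : ∀ m : Fin 693, ((U62.σbar.comp s) (φ c) m).1 = get32 U62.table (m.1 * 9 + c) := by
      intro m
      rcases Nat.eq_zero_or_pos c with rfl | h0
      · simp only [φ, lt_self_iff_false, false_and, dite_false, map_one]
        exact (Nat.eq_of_beq_eq_true (Bool.and_eq_true_iff.1 (allBelow_iff.1 table_ok m.1 m.2)).1).symm
      · simp only [φ, dif_pos (And.intro h0 hc9)]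
        refine (hpσ (c - 1) (by omega) m).trans ?_
        rw [Nat.sub_add_cancel h0]
    have h1 := allBelow_iff.1 (Bool.and_eq_true_iff.1 (allBelow_iff.1 table_ok i.1 i.2)).2 c hc9
    simp only [Bool.and_eq_true, Nat.beq_eq, Nat.blt_eq] at h1
    have h2 : (U62.σbar.comp s) (φ c) ⟨_, h1.2⟩ = i := Fin.ext ((hfw _).trans h1.1)
    rw [Equiv.Perm.inv_def, (Equiv.symm_apply_eq _).2 h2.symm]
    rfl
  have hs : Nat.card (U62.σbar.comp s).range ≤ Nat.card s.range := by
    rw [MonoidHom.range_comp]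
    exact Nat.card_le_card_of_surjective _
      (U62.σbar.subgroupMap_surjective s.range)
  have hsK : Nat.card s.range ≤ Nat.card K :=
    Nat.card_le_card_of_surjective _ s.rangeRestrict_surjective
  have hcK : Nat.card K = 9196830720 := by omega
  have hfs : Function.Bijective f :=
    (Nat.bijective_iff_injective_and_card f).2 ⟨hf, hcK.trans card_G0.symm⟩
  have hss : Function.Bijective s := by
    refine (Nat.bijective_iff_surjective_and_card s).2 ⟨?_, hcK.trans card_psu.symm⟩
    rw [← MonoidHom.range_eq_top]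
    exact Subgroup.eq_top_of_le_card _ (by rw [card_psu]; omega)
  exact ⟨(MulEquiv.ofBijective f hfs).symm.trans (MulEquiv.ofBijective s hss)⟩

/-- The joint stabiliser of any such pair, over any field with four elements. -/
theorem stabilizer_equiv {v w : leechLattice} (hv : sqNorm (vec v) = 32) (hw : sqNorm (vec w) = 32)
    (hd : dotInt (vec v) (vec w) = -16) (F : Type) [Field F] [Fintype F]
    (hF : Fintype.card F = 4) :
    Nonempty (↥(MulAction.stabilizer Co0 v ⊓ MulAction.stabilizer Co0 w) ≃* Cfsg.PSU 6 F 2) := by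
  obtain ⟨g, h1, h2⟩ := LeechPairs.pair_transitive hv hw sqNorm_v0 sqNorm_w0
    (hd.trans dot_v0_w0.symm) (Or.inl dot_v0_w0)
  have e : G0 = (MulAction.stabilizer Co0 v ⊓ MulAction.stabilizer Co0 w).map
      (MulAut.conj g).toMonoidHom := by
    show MulAction.stabilizer Co0 v0 ⊓ MulAction.stabilizer Co0 w0 = _
    rw [Subgroup.map_inf _ _ _ (MulAut.conj g).injective, ← h1, ← h2,
      MulAction.stabilizer_smul_eq_stabilizer_map_conj,
      MulAction.stabilizer_smul_eq_stabilizer_map_conj]
  obtain ⟨e1⟩ := main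
  obtain ⟨e2⟩ := exists_psu_congr
    (FiniteField.ringEquivOfCardEq (K := K4) (K' := F) (K4.card_eq.trans hF.symm)) 6 2
  exact ⟨((Subgroup.equivMapOfInjective _ _ (MulAut.conj g).injective).trans
    ((MulEquiv.subgroupCongr e).symm.trans (e1.trans e2)))⟩

end Cfsg.Agent.Lib.LatticeUnitary.U6
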