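import Cfsg.Agent.Lib.LatticeUnitary.U6Data
import Cfsg.Agent.Lib.CosetEnum.U62.Unitary

/-! The kernel checks of the labelling of vectors by planes. -/

set_option autoImplicit false
set_option maxRecDepth 20000
set_option Elab.async false

namespace Cfsg.Agent.Lib.LatticeUnitary.U6

open Cfsg Cfsg.Agent.Lib.CosetEnum Cfsg.Agent.Lib.ConwayOut Cfsg.Agent.Lib.Leech
open Cfsg.Agent.Lib.Golay
open Cfsg.Agent.Lib.G24

/-- The code of a vector of the list. -/
noncomputable def yc (j : ℕ) : ℕ := getWord codes j

/-- An automorphism of the list. -/
noncomputable def atomElt (a : ℕ) : Co0 := eltW (atoms.getD a [])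

/-- Its effect on the labels. -/
noncomputable def atomPerm (a j : ℕ) : ℕ := get32 (permTrees.getD a (.leaf 0)) j

/-- The effect of a product of automorphisms of the list. -/
noncomputable def wordPerm (w : List ℕ) (j : ℕ) : ℕ :=
  List.rec (motive := fun _ => ℕ) j (fun a _ ih => force ih fun i => atomPerm a i) w

/-- A point of a plane. -/
noncomputable def ptOn (j k : ℕ) : ℕ :=
  Nat.mod (Nat.shiftRight (getWord planePts j) (Nat.mul 10 k)) 1024

/-- The set of points of a plane, as a mask. -/
noncomputable def mask (j : ℕ) : ℕ :=
  Nat.rec 0 (fun k acc => Nat.lor acc (Nat.shiftLeft 1 (ptOn j k))) 21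

/-- A point lies in a plane. -/
def InPlane (i j : ℕ) : Prop := ∃ k < 21, ptOn j k = i

theorem testBit_mask {i j : ℕ} : (mask j).testBit i = true ↔ InPlane i j := by
  have key : ∀ n : ℕ, (Nat.rec (motive := fun _ => ℕ) 0
      (fun k acc => Nat.lor acc (Nat.shiftLeft 1 (ptOn j k))) n).testBit i = true ↔
      ∃ k < n, ptOn j k = i := by
    intro n
    induction n with
    | zero => simp
    | succ n ih =>
      show (_ ||| (1 <<< ptOn j n)).testBit i = true ↔ _
      rw [Nat.testBit_or, Bool.or_eq_true, ih, Nat.one_shiftLeft, Nat.testBit_two_pow]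
      simp only [decide_eq_true_eq]
      constructor
      · rintro (⟨k, hk, h⟩ | h)
        · exact ⟨k, by omega, h⟩
        · exact ⟨n, by omega, h⟩
      · rintro ⟨k, hk, h⟩
        rcases Nat.lt_succ_iff_lt_or_eq.1 hk with hk | rfl
        · exact Or.inl ⟨k, hk, h⟩
        · exact Or.inr h
  exact key 21

/-! ### Checks -/

theorem atoms_ok : (atoms.all okW) = true := by decide +kernel

/-- The automorphisms permute the vectors as the tables say. -/
noncomputable def atomAt (j : ℕ) : Bool :=
  allBelow 8 fun a => force (atomPerm a j) fun j' => Nat.blt j' 891 &&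
    Nat.beq (appW (atoms.getD a []) (yc j)) (yc j')

theorem atom_part0 : allFrom 0 300 atomAt = true := by decide +kernel

theorem atom_part1 : allFrom 300 300 atomAt = true := by decide +kernel

theorem atom_part2 : allFrom 600 291 atomAt = true := by decide +kernel

theorem atom_ok : allBelow 891 atomAt = true :=
  allBelow_add (allBelow_add (allBelow_add (a := 0) (by rfl) atom_part0 (by omega : 0 + 300 = 300))
    atom_part1 (by omega : 300 + 300 = 600)) atom_part2 (by omega : 600 + 291 = 891)

/-- The codes increase. -/
noncomputable def codeAt (j : ℕ) : Bool := Nat.beq j 890 || Nat.blt (yc j) (yc (Nat.succ j))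

theorem code_ok : allBelow 891 codeAt = true := by decide +kernel

/-- The predecessors lead to the first vector. -/
noncomputable def parAt (j : ℕ) : Bool :=
  force (get32 par j) fun x => force (Nat.mod x 1024) fun p =>
    force (Nat.mod (Nat.shiftRight x 10) 64) fun a => force (Nat.shiftRight x 16) fun d =>
      Nat.beq j root || (Nat.blt p 891 && Nat.blt a 8 && Nat.beq (atomPerm a p) j &&
        Nat.blt (Nat.shiftRight (get32 par p) 16) d)

theorem par_ok : allBelow 891 parAt = true := by decide +kernel

/-- The transvections carry the points of a plane into the image plane. -/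
noncomputable def planeAt (j : ℕ) : Bool :=
  allBelow 8 fun g => force (wordPerm (words.getD g []) j) fun j' => force (mask j') fun m =>
    allBelow 21 fun k => force (get32 U62.table (ptOn j k * 9 + (g + 1))) fun i =>
      Nat.beq (Nat.land (Nat.shiftRight m i) 1) 1

theorem plane_part0 : allFrom 0 300 planeAt = true := by decide +kernel

theorem plane_part1 : allFrom 300 300 planeAt = true := by decide +kernel

theorem plane_part2 : allFrom 600 291 planeAt = true := by decide +kernel

theorem plane_ok : allBelow 891 planeAt = true :=
  allBelow_add (allBelow_add (allBelow_add (a := 0) (by rfl) plane_part0 (by omega : 0 + 300 = 300))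
    plane_part1 (by omega : 300 + 300 = 600)) plane_part2 (by omega : 600 + 291 = 891)

theorem pk_ok : allBelow 891 (fun j => allBelow 21 fun k => Nat.blt (ptOn j k) 693) = true := by
  decide +kernel

theorem words_lt : ∀ g < 8, ∀ a ∈ words.getD g [], a < 8 := by decide +kernel

/-- Three planes meet in a point. -/
noncomputable def sepAt (i : ℕ) : Bool :=
  force (get32 sep i) fun x => force (Nat.mod x 1024) fun a =>
    force (Nat.mod (Nat.shiftRight x 10) 1024) fun b => force (Nat.shiftRight x 20) fun c =>
      Nat.blt a 891 && Nat.blt b 891 && Nat.blt c 891 &&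
        Nat.beq (Nat.land (Nat.land (mask a) (mask b)) (mask c)) (Nat.shiftLeft 1 i)

theorem sep_ok : allBelow 693 sepAt = true := by decide +kernel

/-- The columns of the table are involutions, the first one trivial. -/
theorem table_ok : allBelow 693 (fun m => Nat.beq (get32 U62.table (m * 9)) m && allBelow 9 fun g =>
    Nat.beq (get32 U62.table (get32 U62.table (m * 9 + g) * 9 + g)) m &&
      Nat.blt (get32 U62.table (m * 9 + g)) 693) = true := by decide +kernel

end Cfsg.Agent.Lib.LatticeUnitary.U6
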